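import Cfsg.Agent.Lib.Grp.L34.Defs

set_option autoImplicit false
set_option maxRecDepth 100000
set_option Elab.async false
set_option linter.unusedSectionVars false

namespace Cfsg.Agent.CG.L34

theorem c0 : allRange (chkBase 21 8 (appT tabs t38 0xff) 0 (inv 0)) 0 21 = true := by decide +kernel
theorem c1 : allRange (chkBase 21 8 (appT tabs t38 0xff) 1 (inv 1)) 0 21 = true := by decide +kernel
theorem c2 : allRange (chkBase 21 8 (appT tabs t38 0xff) 2 (inv 2)) 0 21 = true := by decide +kernel
theorem c3 : chkDef 8 (appT tabs t38 0xff) 3 (slp 3) 0 21 = true := by decide +kernel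
theorem c4 : chkDef 8 (appT tabs t38 0xff) 4 (slp 4) 0 21 = true := by decide +kernel
theorem c5 : chkDef 8 (appT tabs t38 0xff) 5 (slp 5) 0 21 = true := by decide +kernel
theorem c6 : chkDef 8 (appT tabs t38 0xff) 6 (slp 6) 0 21 = true := by decide +kernel
theorem c7 : chkDef 8 (appT tabs t38 0xff) 7 (slp 7) 0 21 = true := by decide +kernel
theorem c8 : chkDef 8 (appT tabs t38 0xff) 8 (slp 8) 0 21 = true := by decide +kernel
theorem c9 : chkDef 8 (appT tabs t38 0xff) 9 (slp 9) 0 21 = true := by decide +kernel
theorem c10 : chkDef 8 (appT tabs t38 0xff) 10 (slp 10) 0 21 = true := by decide +kernel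
theorem c11 : chkDef 8 (appT tabs t38 0xff) 11 (slp 11) 0 21 = true := by decide +kernel
theorem c12 : chkDef 8 (appT tabs t38 0xff) 12 (slp 12) 0 21 = true := by decide +kernel
theorem c13 : chkDef 8 (appT tabs t38 0xff) 13 (slp 13) 0 21 = true := by decide +kernel
theorem c14 : chkDef 8 (appT tabs t38 0xff) 14 (slp 14) 0 21 = true := by decide +kernel
theorem c15 : chkDef 8 (appT tabs t38 0xff) 15 (slp 15) 0 21 = true := by decide +kernel
theorem c16 : chkDef 8 (appT tabs t38 0xff) 16 (slp 16) 0 21 = true := by decide +kernel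
theorem c17 : chkDef 8 (appT tabs t38 0xff) 17 (slp 17) 0 21 = true := by decide +kernel
theorem c18 : chkDef 8 (appT tabs t38 0xff) 18 (slp 18) 0 21 = true := by decide +kernel
theorem c19 : chkDef 8 (appT tabs t38 0xff) 19 (slp 19) 0 21 = true := by decide +kernel
theorem c20 : chkDef 8 (appT tabs t38 0xff) 20 (slp 20) 0 21 = true := by decide +kernel
theorem c21 : chkDef 8 (appT tabs t38 0xff) 21 (slp 21) 0 21 = true := by decide +kernel
theorem c22 : chkDef 8 (appT tabs t38 0xff) 22 (slp 22) 0 21 = true := by decide +kernel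
theorem c23 : chkDef 8 (appT tabs t38 0xff) 23 (slp 23) 0 21 = true := by decide +kernel
theorem c24 : chkDef 8 (appT tabs t38 0xff) 24 (slp 24) 0 21 = true := by decide +kernel
theorem c25 : chkDef 8 (appT tabs t38 0xff) 25 (slp 25) 0 21 = true := by decide +kernel
theorem c26 : chkDef 8 (appT tabs t38 0xff) 26 (slp 26) 0 21 = true := by decide +kernel
theorem c27 : chkDef 8 (appT tabs t38 0xff) 27 (slp 27) 0 21 = true := by decide +kernel
theorem c28 : chkDef 8 (appT tabs t38 0xff) 28 (slp 28) 0 21 = true := by decide +kernel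
theorem c29 : chkDef 8 (appT tabs t38 0xff) 29 (slp 29) 0 21 = true := by decide +kernel
theorem c30 : chkDef 8 (appT tabs t38 0xff) 30 (slp 30) 0 21 = true := by decide +kernel
theorem c31 : chkDef 8 (appT tabs t38 0xff) 31 (slp 31) 0 21 = true := by decide +kernel
theorem c32 : chkDef 8 (appT tabs t38 0xff) 32 (slp 32) 0 21 = true := by decide +kernel
theorem c33 : chkDef 8 (appT tabs t38 0xff) 33 (slp 33) 0 21 = true := by decide +kernel
theorem c34 : chkDef 8 (appT tabs t38 0xff) 34 (slp 34) 0 21 = true := by decide +kernel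
theorem c35 : chkDef 8 (appT tabs t38 0xff) 35 (slp 35) 0 21 = true := by decide +kernel
theorem c36 : chkDef 8 (appT tabs t38 0xff) 36 (slp 36) 0 21 = true := by decide +kernel
theorem c37 : chkDef 8 (appT tabs t38 0xff) 37 (slp 37) 0 21 = true := by decide +kernel
theorem c38 : chkDef 8 (appT tabs t38 0xff) 38 (false, []) 0 21 = true := by decide +kernel
theorem c39 : mc0.chk (appT tabs t38 0xff) 1 20 = true := by decide +kernel
theorem c40 : mc1.chk (appT tabs t38 0xff) 1 19 = true := by decide +kernel
theorem c41 : mc2.chk (appT tabs t38 0xff) 1 2 = true := by decide +kernel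
theorem c42 : mc3.chk (appT tabs t38 0xff) 1 15 = true := by decide +kernel
theorem c43 : okcb 21 8 (bases mc) = true := by decide +kernel
theorem c44 : headAll (appT tabs t38 0xff) mc [] = true := by decide +kernel
theorem c45 : tc0.head tcR = true := by decide +kernel
theorem c46 : allL (fun a => tc0.chk a 0 tc0.N) tc0.S = true := by decide +kernel
theorem c47 : tc1.head tcR = true := by decide +kernel
theorem c48 : allL (fun a => tc1.chk a 0 tc1.N) tc1.S = true := by decide +kernel
theorem c49 : tc2.head tcR = true := by decide +kernel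
theorem c50 : allL (fun a => tc2.chk a 0 tc2.N) tc2.S = true := by decide +kernel
theorem c51 : tc3.head tcR = true := by decide +kernel
theorem c52 : allL (fun a => tc3.chk a 0 tc3.N) tc3.S = true := by decide +kernel
theorem c53 : tcLink tc [] [30,31,32,33,34,35,36,37] = true := by decide +kernel
theorem c54 : oneAll 8 (appT tabs t38 0xff) [30,30] 0 21 = true := by decide +kernel
theorem c55 : oneAll 8 (appT tabs t38 0xff) [31,31] 0 21 = true := by decide +kernel
theorem c56 : oneAll 8 (appT tabs t38 0xff) [32,32] 0 21 = true := by decide +kernel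
theorem c57 : oneAll 8 (appT tabs t38 0xff) [33,33] 0 21 = true := by decide +kernel
theorem c58 : oneAll 8 (appT tabs t38 0xff) [30,31,30,31] 0 21 = true := by decide +kernel
theorem c59 : oneAll 8 (appT tabs t38 0xff) [30,32,30,32] 0 21 = true := by decide +kernel
theorem c60 : oneAll 8 (appT tabs t38 0xff) [30,33,30,33] 0 21 = true := by decide +kernel
theorem c61 : oneAll 8 (appT tabs t38 0xff) [31,32,31,32] 0 21 = true := by decide +kernel
theorem c62 : oneAll 8 (appT tabs t38 0xff) [31,33,31,33] 0 21 = true := by decide +kernel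
theorem c63 : oneAll 8 (appT tabs t38 0xff) [32,33,32,33] 0 21 = true := by decide +kernel
theorem c64 : oneAll 8 (appT tabs t38 0xff) [34,35] 0 21 = true := by decide +kernel
theorem c65 : oneAll 8 (appT tabs t38 0xff) [35,34] 0 21 = true := by decide +kernel
theorem c66 : oneAll 8 (appT tabs t38 0xff) [34,34,34] 0 21 = true := by decide +kernel
theorem c67 : oneAll 8 (appT tabs t38 0xff) [35,30,34,31] 0 21 = true := by decide +kernel
theorem c68 : oneAll 8 (appT tabs t38 0xff) [34,32,35,33] 0 21 = true := by decide +kernel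
theorem c69 : oneAll 8 (appT tabs t38 0xff) [34,30,35,30,31] 0 21 = true := by decide +kernel
theorem c70 : oneAll 8 (appT tabs t38 0xff) [35,32,34,32,33] 0 21 = true := by decide +kernel
theorem c71 : oneAll 8 (appT tabs t38 0xff) [36,36] 0 21 = true := by decide +kernel
theorem c72 : oneAll 8 (appT tabs t38 0xff) [36,33,36,33,36,33] 0 21 = true := by decide +kernel
theorem c73 : oneAll 8 (appT tabs t38 0xff) [36,34,36,34,36,34] 0 21 = true := by decide +kernel
theorem c74 : oneAll 8 (appT tabs t38 0xff) [36,32,30,34,36,30,32,34] 0 21 = true := by decide +kernel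
theorem c75 : oneAll 8 (appT tabs t38 0xff) [36,30,36,30,36,30,36,30] 0 21 = true := by decide +kernel
theorem c76 : oneAll 8 (appT tabs t38 0xff) [36,31,36,30,36,31,36,30] 0 21 = true := by decide +kernel
theorem c77 : oneAll 8 (appT tabs t38 0xff) [36,30,36,33,36,30,36,30,33] 0 21 = true := by decide +kernel
theorem c78 : oneAll 8 (appT tabs t38 0xff) [37,37] 0 21 = true := by decide +kernel
theorem c79 : oneAll 8 (appT tabs t38 0xff) [37,32,37,32] 0 21 = true := by decide +kernel
theorem c80 : oneAll 8 (appT tabs t38 0xff) [37,33,37,33] 0 21 = true := by decide +kernel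
theorem c81 : oneAll 8 (appT tabs t38 0xff) [37,30,37,30,33] 0 21 = true := by decide +kernel
theorem c82 : oneAll 8 (appT tabs t38 0xff) [37,31,37,31,32,33] 0 21 = true := by decide +kernel
theorem c83 : oneAll 8 (appT tabs t38 0xff) [37,34,37,34,37,34] 0 21 = true := by decide +kernel
theorem c84 : oneAll 8 (appT tabs t38 0xff) [37,36,33,37,36,37,33,36,33] 0 21 = true := by decide +kernel
theorem c85 : oneAll 8 (appT tabs t38 0xff) [37,34,36,31,36,37,34,36,31,36] 0 21 = true := by decide +kernel
theorem c86 : eqAll 8 (appT tabs t38 0xff) [0] (nth inW [] 0) 0 21 = true := by decide +kernel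
theorem c87 : eqAll 8 (appT tabs t38 0xff) [1] (nth inW [] 1) 0 21 = true := by decide +kernel
theorem c88 : eqAll 8 (appT tabs t38 0xff) [2] (nth inW [] 2) 0 21 = true := by decide +kernel

end Cfsg.Agent.CG.L34
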