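import Cfsg.Agent.Lib.Grp.L34.D0

set_option autoImplicit false
set_option maxRecDepth 100000
set_option Elab.async false
set_option linter.unusedSectionVars false

namespace Cfsg.Agent.CG.L34

noncomputable def tabs : List ℕ := [t0,t1,t2,t3,t4,t5,t6,t7,t8,t9,t10,t11,t12,t13,t14,t15,t16,t17,t18,t19,t20,t21,t22,t23,t24,t25,t26,t27,t28,t29,t30,t31,t32,t33,t34,t35,t36,t37]
noncomputable abbrev app : ℕ → ℕ → ℕ := appT tabs t38 0xff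
noncomputable def slpL : List (Bool × List ℕ) := [(false,[]),
  (false,[]),
  (false,[]),
  (false,[0,1]),
  (true,[3]),
  (false,[0]),
  (false,[3]),
  (true,[6]),
  (false,[1,1,3,0,5,0,4,2,2]),
  (false,[6,8,7,8,7]),
  (true,[9]),
  (false,[6,9,7]),
  (true,[11]),
  (false,[10,10,10]),
  (true,[13]),
  (false,[8,11]),
  (true,[15]),
  (false,[11,14,12,13]),
  (true,[17]),
  (false,[15,17]),
  (true,[19]),
  (false,[16,17,15,18]),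
  (true,[21]),
  (false,[16,16,17,17,16,16]),
  (true,[23]),
  (false,[19,22]),
  (false,[19,23]),
  (false,[20,24]),
  (false,[20,21]),
  (false,[19,24,19]),
  (false,[29,28,25]),
  (false,[28,27]),
  (false,[29,25]),
  (false,[28,26]),
  (false,[20,28,25]),
  (true,[34]),
  (false,[15,20,28,27,25]),
  (false,[6,15,18,15,20,29,25])]
noncomputable def slp (a : ℕ) : Bool × List ℕ := nth slpL (false, []) a
noncomputable def invL : List ℕ := [0,2,1,4,3,5,7,6,8,10,9,12,11,14,13,16,15,18,17,20,19,22,21,24,23,25,26,27,28,29,30,31,32,33,35,34,36,37]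
noncomputable def inv (a : ℕ) : ℕ := nth invL 38 a
noncomputable def bs : List ℕ := [8,56,16,128]
noncomputable def mc0 : Lvl := ⟨8, [6,7,8,9,10,11,12,13,14], 21,
  fun i => look 0xff mc0c (Nat.mul 8 i), fun i => look 0xff mc0p (Nat.mul 8 i),
  fun i => look 0xff mc0l (Nat.mul 8 i), fun i => look 0xff mc0i (Nat.mul 8 i), fun x => look 0xff mc0q x, 2⟩
noncomputable def mc1 : Lvl := ⟨56, [15,16,17,18], 20,
  fun i => look 0xff mc1c (Nat.mul 8 i), fun i => look 0xff mc1p (Nat.mul 8 i),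
  fun i => look 0xff mc1l (Nat.mul 8 i), fun i => look 0xff mc1i (Nat.mul 8 i), fun x => look 0xff mc1q x, 3⟩
noncomputable def mc2 : Lvl := ⟨16, [19,20], 3,
  fun i => look 0xff mc2c (Nat.mul 8 i), fun i => look 0xf mc2p (Nat.mul 4 i),
  fun i => look 0xff mc2l (Nat.mul 8 i), fun i => look 0xff mc2i (Nat.mul 8 i), fun x => look 0xff mc2q x, 1⟩
noncomputable def mc3 : Lvl := ⟨128, [25,26,27,28,29], 16,
  fun i => look 0xff mc3c (Nat.mul 8 i), fun i => look 0xff mc3p (Nat.mul 8 i),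
  fun i => look 0xff mc3l (Nat.mul 8 i), fun i => look 0xff mc3i (Nat.mul 8 i), fun x => look 0xff mc3q x, 3⟩
noncomputable def mc : List Lvl := [mc0, mc1, mc2, mc3]
noncomputable def tcR : List (List ℕ) := [[30,30],
  [31,31],
  [32,32],
  [33,33],
  [30,31,30,31],
  [30,32,30,32],
  [30,33,30,33],
  [31,32,31,32],
  [31,33,31,33],
  [32,33,32,33],
  [34,35],
  [35,34],
  [34,34,34],
  [35,30,34,31],
  [34,32,35,33],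
  [34,30,35,30,31],
  [35,32,34,32,33],
  [36,36],
  [36,33,36,33,36,33],
  [36,34,36,34,36,34],
  [36,32,30,34,36,30,32,34],
  [36,30,36,30,36,30,36,30],
  [36,31,36,30,36,31,36,30],
  [36,30,36,33,36,30,36,30,33],
  [37,37],
  [37,32,37,32],
  [37,33,37,33],
  [37,30,37,30,33],
  [37,31,37,31,32,33],
  [37,34,37,34,37,34],
  [37,36,33,37,36,37,33,36,33],
  [37,34,36,31,36,37,34,36,31,36]]
noncomputable def tc0T : List ℕ := [0,0,0,0,0,0,0,0,0,0,0,0,0,0,0,0,0,0,0,0,0,0,0,0,0,0,0,0,0,0,tc0t30,tc0t31,tc0t32,tc0t33,tc0t34,tc0t35,tc0t36,tc0t37]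
noncomputable def tc0r : Tr Rule := (.node (.node (.node (.node (.node (.node (.leaf ⟨37,[37],24,1⟩) (.leaf ⟨37,[32,37,32],25,2⟩)) (.node (.leaf ⟨30,[33,37,30,37],27,3⟩) (.leaf ⟨37,[32,37,32],25,0⟩))) (.node (.node (.leaf ⟨30,[33,30,33],6,2⟩) (.leaf ⟨32,[33,32,33],9,2⟩)) (.leaf ⟨30,[35,30,31,34],15,1⟩))) (.node (.node (.node (.leaf ⟨30,[30],0,1⟩) (.leaf ⟨31,[32,31,32],7,2⟩)) (.node (.leaf ⟨36,[30,33,36,30,36,33,36,30],23,6⟩) (.leaf ⟨31,[32,31,32],7,0⟩))) (.node (.node (.leaf ⟨36,[33,36,33,36,33],18,4⟩) (.leaf ⟨32,[30,32,30],5,3⟩)) (.leaf ⟨37,[33,36,33,37,36,33,37,36],30,5⟩)))) (.node (.node (.node (.node (.leaf ⟨34,[35],10,0⟩) (.leaf ⟨31,[36,37,34,36,31,36,37,34,36],31,8⟩)) (.node (.leaf ⟨30,[34,36,30,32,34,36,32],20,2⟩) (.leaf ⟨33,[37,33,37],26,1⟩))) (.node (.node (.leaf ⟨32,[37,32,37],25,3⟩) (.leaf ⟨30,[31,34,30,35],15,3⟩)) (.leaf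 ⟨32,[34,36,32,30,34,36,30],20,6⟩))) (.node (.node (.node (.leaf ⟨33,[33],3,1⟩) (.leaf ⟨34,[31,35,30],13,2⟩)) (.node (.leaf ⟨31,[32,33,37,31,37],28,3⟩) (.leaf ⟨34,[36,34,36,34,36],19,3⟩))) (.node (.node (.leaf ⟨32,[35,33,34],14,1⟩) (.leaf ⟨32,[31,32,31],7,1⟩)) (.leaf ⟨37,[30,33,37,30],27,2⟩))))) (.node (.node (.node (.node (.node (.leaf ⟨35,[34],10,1⟩) (.leaf ⟨32,[33,37,31,37,31],28,4⟩)) (.node (.leaf ⟨31,[35,30,34],13,3⟩) (.leaf ⟨36,[34,36,34,36,34],19,0⟩))) (.node (.node (.leaf ⟨36,[34,36,34,36,34],19,4⟩) (.leaf ⟨35,[33,34,32],14,2⟩)) (.leaf ⟨31,[36,30,36,31,36,30,36],22,5⟩))) (.node (.node (.node (.leaf ⟨32,[32],2,1⟩) (.leaf ⟨31,[33,31,33],8,2⟩)) (.node (.leaf ⟨33,[36,30,36,30,33,36,30,36],23,3⟩) (.leaf ⟨34,[32,35,33],14,0⟩))) (.node (.node (.leaf ⟨33,[37,33,37],26,3⟩) (.leaf ⟨37,[33,37,33],26,2⟩)) (.leaf ⟨37,[36,37,33,36,33,37,36,33],30,3⟩))))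 (.node (.node (.node (.node (.leaf ⟨36,[36],17,1⟩) (.leaf ⟨31,[31],1,1⟩)) (.node (.leaf ⟨30,[36,30,36,30,36,30,36],21,5⟩) (.leaf ⟨30,[32,30,32],5,0⟩))) (.node (.node (.leaf ⟨33,[34,32,35],14,3⟩) (.leaf ⟨37,[31,37,31,32,33],28,0⟩)) (.leaf ⟨37,[34,37,34,37,34],29,4⟩))) (.node (.node (.node (.leaf ⟨34,[34,34],12,2⟩) (.leaf ⟨31,[30,31,30],4,3⟩)) (.leaf ⟨30,[34,31,35],13,1⟩)) (.node (.node (.leaf ⟨32,[34,32,33,35],16,1⟩) (.leaf ⟨33,[31,33,31],8,1⟩)) (.leaf ⟨37,[30,37,30,33],27,0⟩))))))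
noncomputable def tc0 : TCL := ⟨[30,31,32,33,34,35,36,37], [30,31,32,33,34,35,36], 21, 20, 0x1ff, 9, 0x3f,
  fun a x => look 0xfffff (nth tc0T 0 a) x, fun x => look 0xfffff tc0d x, tc0r⟩
noncomputable def tc1T : List ℕ := [0,0,0,0,0,0,0,0,0,0,0,0,0,0,0,0,0,0,0,0,0,0,0,0,0,0,0,0,0,0,tc1t30,tc1t31,tc1t32,tc1t33,tc1t34,tc1t35,tc1t36]
noncomputable def tc1r : Tr Rule := (.node (.node (.node (.node (.node (.node (.leaf ⟨36,[36],17,1⟩) (.leaf ⟨33,[36,33,36,33,36],18,3⟩)) (.leaf ⟨30,[34,31,35],13,1⟩)) (.node (.node (.leaf ⟨30,[33,30,33],6,2⟩) (.leaf ⟨33,[36,30,36,30,33,36,30,36],23,3⟩)) (.leaf ⟨32,[30,32,30],5,3⟩))) (.node (.node (.node (.leaf ⟨33,[33],3,1⟩) (.leaf ⟨30,[36,31,36,30,36,31,36],22,3⟩)) (.leaf ⟨30,[34,36,30,32,34,36,32],20,2⟩)) (.node (.node (.leaf ⟨30,[33,30,33],6,0⟩) (.leaf ⟨36,[30,36,33,36,30,36,30,33],23,0⟩)) (.leaf ⟨34,[32,35,33],14,0⟩))))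 (.node (.node (.node (.node (.leaf ⟨31,[31],1,1⟩) (.leaf ⟨30,[36,30,36,30,36,30,36],21,5⟩)) (.leaf ⟨36,[34,36,34,36,34],19,4⟩)) (.node (.node (.leaf ⟨31,[33,31,33],8,2⟩) (.leaf ⟨36,[30,36,30,33,36,30,36,33],23,4⟩)) (.leaf ⟨32,[33,32,33],9,0⟩))) (.node (.node (.node (.leaf ⟨34,[35],10,0⟩) (.leaf ⟨32,[30,34,36,30,32,34,36],20,1⟩)) (.leaf ⟨33,[34,32,35],14,3⟩)) (.node (.leaf ⟨30,[35,30,31,34],15,1⟩) (.leaf ⟨34,[34,34],12,1⟩))))) (.node (.node (.node (.node (.node (.leaf ⟨30,[30],0,1⟩) (.leaf ⟨34,[36,34,36,34,36],19,3⟩)) (.leaf ⟨36,[33,36,33,36,33],18,4⟩)) (.node (.node (.leaf ⟨31,[35,30,34],13,3⟩) (.leaf ⟨33,[36,30,36,33,36,30,36,30],23,8⟩)) (.leaf ⟨33,[31,33,31],8,3⟩))) (.node (.node (.node (.leaf ⟨35,[34],10,1⟩) (.leaf ⟨31,[34,30,35,30],15,4⟩)) (.leaf ⟨32,[31,32,31],7,3⟩)) (.node (.node (.leaf ⟨34,[31,35,30],13,2⟩) (.leaf ⟨32,[35,33,34],14,1⟩))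 (.leaf ⟨35,[33,34,32],14,2⟩)))) (.node (.node (.node (.node (.leaf ⟨32,[32],2,1⟩) (.leaf ⟨31,[36,30,36,31,36,30,36],22,5⟩)) (.leaf ⟨32,[34,36,32,30,34,36,30],20,6⟩)) (.node (.node (.leaf ⟨34,[34,34],12,2⟩) (.leaf ⟨36,[33,36,30,36,30,33,36,30],23,2⟩)) (.leaf ⟨32,[33,32,33],9,2⟩))) (.node (.node (.node (.leaf ⟨30,[31,30,31],4,2⟩) (.leaf ⟨36,[30,33,36,30,36,33,36,30],23,6⟩)) (.leaf ⟨35,[30,34,31],13,0⟩)) (.node (.leaf ⟨31,[30,31,30],4,3⟩) (.leaf ⟨36,[30,32,34,36,32,30,34],20,4⟩))))))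
noncomputable def tc1 : TCL := ⟨[30,31,32,33,34,35,36], [30,31,32,33,34,35], 20, 20, 0x1ff, 9, 0x3f,
  fun a x => look 0xfffff (nth tc1T 0 a) x, fun x => look 0xfffff tc1d x, tc1r⟩
noncomputable def tc2T : List ℕ := [0,0,0,0,0,0,0,0,0,0,0,0,0,0,0,0,0,0,0,0,0,0,0,0,0,0,0,0,0,0,tc2t30,tc2t31,tc2t32,tc2t33,tc2t34,tc2t35]
noncomputable def tc2r : Tr Rule := (.node (.node (.node (.node (.leaf ⟨35,[34],10,1⟩) (.leaf ⟨30,[31,34,30,35],15,3⟩)) (.leaf ⟨30,[34,31,35],13,1⟩)) (.node (.node (.leaf ⟨34,[34,34],12,2⟩) (.leaf ⟨32,[34,32,33,35],16,1⟩)) (.leaf ⟨32,[35,33,34],14,1⟩))) (.node (.node (.node (.leaf ⟨34,[35],10,0⟩) (.leaf ⟨33,[35,32,34,32],16,4⟩)) (.leaf ⟨33,[34,32,35],14,3⟩)) (.node (.leaf ⟨31,[35,30,34],13,3⟩) (.leaf ⟨31,[34,30,35,30],15,4⟩))))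
noncomputable def tc2 : TCL := ⟨[30,31,32,33,34,35], [30,31,32,33], 3, 16, 0x3f, 6, 0xf,
  fun a x => look 0xffff (nth tc2T 0 a) x, fun x => look 0xffff tc2d x, tc2r⟩
noncomputable def tc3T : List ℕ := [0,0,0,0,0,0,0,0,0,0,0,0,0,0,0,0,0,0,0,0,0,0,0,0,0,0,0,0,0,0,tc3t30,tc3t31,tc3t32,tc3t33]
noncomputable def tc3r : Tr Rule := (.node (.node (.node (.node (.leaf ⟨30,[30],0,1⟩) (.leaf ⟨31,[33,31,33],8,2⟩)) (.leaf ⟨30,[31,30,31],4,2⟩)) (.node (.leaf ⟨32,[32],2,1⟩) (.leaf ⟨30,[33,30,33],6,2⟩))) (.node (.node (.node (.leaf ⟨31,[31],1,1⟩) (.leaf ⟨32,[33,32,33],9,2⟩)) (.leaf ⟨30,[32,30,32],5,2⟩)) (.node (.leaf ⟨33,[33],3,1⟩) (.leaf ⟨31,[32,31,32],7,2⟩))))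
noncomputable def tc3 : TCL := ⟨[30,31,32,33], [], 16, 20, 0x1ff, 9, 0xf,
  fun a x => look 0xfffff (nth tc3T 0 a) x, fun x => look 0xfffff tc3d x, tc3r⟩
noncomputable def tc : List TCL := [tc0, tc1, tc2, tc3]
noncomputable def inW : List (List ℕ) := [[34,36,37,33,31,36,34,33,31],
  [33,36,37,31,36,35,30],
  [32,36,35,37,31,30,36,33]]
noncomputable def tcS : List ℕ := [30,31,32,33,34,35,36,37]

end Cfsg.Agent.CG.L34
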